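import Mathlib

/-!
Noetherianity of `L ⊗[K] R` for an algebraic closure `L/K` of a perfect field, when the algebraic
closures of `K` in the residue fields of `R` are finite over `K`.
-/

set_option autoImplicit false
set_option linter.style.haveILetI false
universe u

open TensorProduct Polynomial

namespace GrothLib.NoethTensor4

/-- If `L/F` is separable with `L` algebraically closed and an intermediate field `E` of `Ω/F` meets
the image of `L` in `F`, then `F`-independent families of `L` stay `E`-independent. -/
theorem coeff_eq_zero {F L Ω : Type u} [Field F] [Field L] [Field Ω] [Algebra F L] [Algebra F Ω]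
    [IsAlgClosed L] [Algebra.IsSeparable F L] (j : L →ₐ[F] Ω) (E : IntermediateField F Ω)
    (hE : ∀ l : L, j l ∈ E → l ∈ Set.range (algebraMap F L))
    {ι : Type u} [Fintype ι] (b : ι → L) (hb : LinearIndependent F b) (e : ι → E)
    (he : ∑ i, (e i : Ω) * j (b i) = 0) : ∀ i, e i = 0 := by
  classical
  let N : IntermediateField F L := IntermediateField.adjoin F (Set.range b)
  haveI : FiniteDimensional F N := IntermediateField.finiteDimensional_adjoin
    fun x _ => (Algebra.IsSeparable.isSeparable F x).isIntegral
  haveI : Algebra.IsSeparable F N := Algebra.isSeparable_tower_bot_of_isSeparable F N L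
  obtain ⟨α, hα⟩ := Field.exists_primitive_element F N
  have hαint : IsIntegral F α := IsIntegral.of_finite F α
  let d := (minpoly F α).natDegree
  let pb : PowerBasis F N := (IntermediateField.adjoin.powerBasis hαint).map
    ((IntermediateField.equivOfEq hα).trans IntermediateField.topEquiv)
  have hgen : pb.gen = α := by simp [pb, IntermediateField.adjoin.powerBasis]
  have hdim : pb.dim = d := by simp [pb, IntermediateField.adjoin.powerBasis, d]
  -- the minimal polynomial of `α` stays irreducible over `E`
  let x : Ω := j (α : L)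
  have hxint : IsIntegral E x := IsIntegral.tower_top ((hαint.map N.val).map j)
  have hdeg : d ≤ (minpoly E x).natDegree := by
    let p := minpoly F α
    have hdvd : (minpoly E x).map (algebraMap E Ω) ∣ (p.map (algebraMap F L)).map (j : L →+* Ω) := by
      rw [Polynomial.map_map, AlgHom.comp_algebraMap,
        show algebraMap F Ω = (algebraMap E Ω).comp (algebraMap F E) from
          IsScalarTower.algebraMap_eq F E Ω, ← Polynomial.map_map]
      refine Polynomial.map_dvd _ (minpoly.dvd E x ?_)
      rw [Polynomial.aeval_map_algebraMap, show x = (j.comp N.val) α from rfl,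
        Polynomial.aeval_algHom_apply, minpoly.aeval, map_zero]
    have hsp : ((p.map (algebraMap F L)).map (j : L →+* Ω)).Splits :=
      (IsAlgClosed.splits _).map _
    have hne : (p.map (algebraMap F L)).map (j : L →+* Ω) ≠ 0 :=
      ((minpoly.monic hαint).map _).map _ |>.ne_zero
    have hlift : (minpoly E x).map (algebraMap E Ω) ∈ Polynomial.lifts (j : L →+* Ω) := by
      refine (hsp.of_dvd hne hdvd).mem_lift_of_roots_mem_range ((minpoly.monic hxint).map _) _
        fun a ha => ?_
      have ha' := Multiset.mem_of_le (Polynomial.roots.le_of_dvd hne hdvd) ha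
      rw [(IsAlgClosed.splits (p.map (algebraMap F L))).roots_map, Multiset.mem_map] at ha'
      obtain ⟨c, -, rfl⟩ := ha'
      exact ⟨c, rfl⟩
    have hcoeff : (minpoly E x) ∈ Polynomial.lifts (algebraMap F E) := by
      rw [Polynomial.lifts_iff_coeff_lifts]
      intro n
      obtain ⟨l, hl⟩ := (Polynomial.lifts_iff_coeff_lifts _).1 hlift n
      rw [Polynomial.coeff_map] at hl
      have hmem : j l ∈ E := by
        change j l = _ at hl
        rw [hl]
        exact ((minpoly E x).coeff n).2
      obtain ⟨c, rfl⟩ := hE l hmem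
      refine ⟨c, Subtype.ext ?_⟩
      change j _ = _ at hl
      rw [j.commutes] at hl
      exact hl
    obtain ⟨q, hq, hqdeg, hqm⟩ := Polynomial.lifts_and_natDegree_eq_and_monic hcoeff (minpoly.monic hxint)
    rw [← hqdeg]
    refine Polynomial.natDegree_le_of_dvd (minpoly.dvd F α ?_) hqm.ne_zero
    have h0 : Polynomial.aeval x q = 0 := by
      rw [← Polynomial.aeval_map_algebraMap E x q, hq, minpoly.aeval]
    rw [show x = (j.comp N.val) α from rfl, Polynomial.aeval_algHom_apply] at h0
    exact (j.comp N.val).injective (h0.trans (map_zero _).symm)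
  have hind : LinearIndependent E (fun k : Fin pb.dim => x ^ (k : ℕ)) := by
    have := (linearIndependent_pow (K := E) x).comp
      (fun k : Fin pb.dim => (⟨k, k.2.trans_le (hdim.le.trans hdeg)⟩ : Fin (minpoly E x).natDegree))
      (fun a b h => Fin.ext (by simpa using congrArg Fin.val h))
    exact this
  let b' : ι → N := fun i => ⟨b i, IntermediateField.subset_adjoin F _ ⟨i, rfl⟩⟩
  have hb' : LinearIndependent F b' := LinearIndependent.of_comp N.val.toLinearMap hb
  let c : ι → Fin pb.dim → F := fun i k => pb.basis.repr (b' i) k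
  have hcomb : ∀ i, j (b i) = ∑ k, algebraMap F Ω (c i k) * x ^ (k : ℕ) := fun i => by
    have := congrArg (fun z : N => j (z : L)) (pb.basis.sum_repr (b' i))
    simpa [c, x, b', hgen, map_sum, Algebra.smul_def, PowerBasis.coe_basis] using this.symm
  have hk : ∀ k, ∑ i, e i * algebraMap F E (c i k) = 0 := by
    refine Fintype.linearIndependent_iff.1 hind _ ?_
    rw [← he]
    simp only [hcomb, Finset.mul_sum]
    rw [Finset.sum_comm]
    refine Finset.sum_congr rfl fun k _ => ?_
    rw [Algebra.smul_def, map_sum, Finset.sum_mul]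
    refine Finset.sum_congr rfl fun i _ => ?_
    rw [map_mul, mul_assoc]
    rfl
  obtain ⟨φ, hφ⟩ := (Finsupp.linearCombination F b').exists_leftInverse_of_injective
    (LinearMap.ker_eq_bot.2 hb')
  intro m
  have hδ : ∀ i, ∑ k, c i k * φ (pb.basis k) m = if i = m then 1 else 0 := fun i => by
    have h1 := LinearMap.congr_fun hφ (Finsupp.single i 1)
    rw [LinearMap.comp_apply, Finsupp.linearCombination_single, one_smul,
      ← pb.basis.sum_repr (b' i), map_sum] at h1
    have h2 := congrArg (fun f => f m) h1
    simpa [c, Finsupp.finsetSum_apply, Finsupp.single_apply] using h2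
  calc e m = ∑ i, e i * algebraMap F E (∑ k, c i k * φ (pb.basis k) m) := by
        rw [Finset.sum_congr rfl fun i _ => congrArg (fun a => e i * algebraMap F E a) (hδ i)]
        simp [apply_ite]
    _ = ∑ k, (∑ i, e i * algebraMap F E (c i k)) * algebraMap F E (φ (pb.basis k) m) := by
        simp only [map_sum, map_mul, Finset.mul_sum, Finset.sum_mul, mul_assoc]
        exact Finset.sum_comm
    _ = 0 := by simp [hk]

/-- Intermediate fields all of whose finite subfields have bounded degree are finite. -/
theorem finiteDimensional_of_bound {K L : Type u} [Field K] [Field L] [Algebra K L]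
    [Algebra.IsAlgebraic K L] (F : IntermediateField K L) (N : ℕ)
    (h : ∀ F' : IntermediateField K L, F' ≤ F → FiniteDimensional K F' → Module.finrank K F' ≤ N) :
    FiniteDimensional K F := by
  classical
  let S : Set ℕ := {n | ∃ F' : IntermediateField K L, F' ≤ F ∧ FiniteDimensional K F' ∧
    Module.finrank K F' = n}
  have hS : S.Finite := (Set.finite_Iic N).subset fun n ⟨F', h1, h2, h3⟩ => h3 ▸ h F' h1 h2
  have hne : S.Nonempty := ⟨_, ⊥, bot_le, inferInstance, rfl⟩
  obtain ⟨n, ⟨F', h1, h2, h3⟩, hmax⟩ := hS.exists_maximal hne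
  suffices hFF : F ≤ F' by
    haveI := h2
    exact Module.Finite.of_injective (IntermediateField.inclusion hFF).toLinearMap
      fun a b hab => IntermediateField.inclusion_injective hFF hab
  intro x hx
  haveI := h2
  haveI : FiniteDimensional K (IntermediateField.adjoin K {x}) :=
    IntermediateField.adjoin.finiteDimensional (Algebra.IsAlgebraic.isAlgebraic x).isIntegral
  let F'' := F' ⊔ IntermediateField.adjoin K {x}
  have hle : F'' ≤ F := sup_le h1 (IntermediateField.adjoin_le_iff.2 (Set.singleton_subset_iff.2 hx))
  have hmem : Module.finrank K F'' ∈ S := ⟨F'', hle, inferInstance, rfl⟩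
  have hge : n ≤ Module.finrank K F'' := h3 ▸ IntermediateField.finrank_le_of_le_right le_sup_left
  have := IntermediateField.eq_of_le_of_finrank_le (F := F') (E := F'') le_sup_left
    (h3 ▸ hmax hmem hge)
  rw [this]
  exact le_sup_right (a := F') (IntermediateField.mem_adjoin_simple_self K x)

theorem isNoetherianRing_tensor {K L : Type u} [Field K] [PerfectField K] [Field L] [Algebra K L]
    [IsAlgClosed L] [Algebra.IsAlgebraic K L] (R : Type u) [CommRing R] [Algebra K R]
    [IsNoetherianRing R]
    (hbd : ∀ (Ω : Type u) [Field Ω] [Algebra K Ω] (φ : R →ₐ[K] Ω), ∃ N : ℕ,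
      ∀ F : IntermediateField K Ω, F ≤ IntermediateField.adjoin K (Set.range φ) →
        FiniteDimensional K F → Module.finrank K F ≤ N) :
    IsNoetherianRing (L ⊗[K] R) := by
  classical
  refine IsNoetherianRing.of_prime fun P hP => ?_
  haveI := hP
  let Ω := P.ResidueField
  let ψ : L ⊗[K] R →ₐ[K] Ω := IsScalarTower.toAlgHom K _ Ω
  let j : L →ₐ[K] Ω := ψ.comp Algebra.TensorProduct.includeLeft
  let φ : R →ₐ[K] Ω := ψ.comp Algebra.TensorProduct.includeRight
  let E₀ := IntermediateField.adjoin K (Set.range φ)
  let F : IntermediateField K L := E₀.comap j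
  haveI : FiniteDimensional K F := by
    obtain ⟨N, hN⟩ := hbd Ω φ
    refine finiteDimensional_of_bound F N fun F' hle hfin => ?_
    have := hN (F'.map j) ((IntermediateField.gc_map_comap j).l_le hle)
      (LinearEquiv.finiteDimensional (F'.equivMap j).toLinearEquiv)
    rwa [← (F'.equivMap j).toLinearEquiv.finrank_eq] at this
  haveI : IsNoetherianRing (F ⊗[K] R) := by
    haveI : IsNoetherianRing (R ⊗[K] F) := IsNoetherianRing.of_finite R (R ⊗[K] F)
    exact isNoetherianRing_of_ringEquiv _ (Algebra.TensorProduct.comm K R F).toRingEquiv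
  let ι : F ⊗[K] R →ₐ[K] L ⊗[K] R := Algebra.TensorProduct.map F.val (AlgHom.id K R)
  suffices h : P = (P.comap ι).map ι by
    rw [h]
    exact Ideal.FG.map (IsNoetherian.noetherian _) _
  refine le_antisymm (fun z hz => ?_) Ideal.map_comap_le
  let bs := Module.Free.chooseBasis F L
  obtain ⟨t, rfl⟩ : ∃ t : Module.Free.ChooseBasisIndex F L →₀ F ⊗[K] R,
      z = t.sum fun i y => (bs i ⊗ₜ[K] (1 : R)) * ι y := by
    clear hz
    induction z using TensorProduct.induction_on with
    | zero => exact ⟨0, by simp⟩
    | tmul l r =>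
      refine ⟨(bs.repr l).mapRange (fun c => c ⊗ₜ[K] r) (zero_tmul _ _), ?_⟩
      rw [Finsupp.sum_mapRange_index (by simp)]
      conv_lhs => rw [← bs.linearCombination_repr l]
      rw [Finsupp.linearCombination_apply, Finsupp.sum, Finsupp.sum, sum_tmul]
      refine Finset.sum_congr rfl fun i _ => ?_
      simp [ι, Algebra.smul_def, mul_comm]
    | add a b ha hb =>
      obtain ⟨s, rfl⟩ := ha
      obtain ⟨t, rfl⟩ := hb
      exact ⟨s + t, (Finsupp.sum_add_index (fun i _ => by simp)
        (fun i _ a b => by rw [map_add, mul_add])).symm⟩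
  have hz' : ψ (t.sum fun i y => (bs i ⊗ₜ[K] (1 : R)) * ι y) = 0 := Ideal.algebraMap_residueField_eq_zero.2 hz
  -- base change to `F`
  let j' : L →ₐ[F] Ω := { j.toRingHom with commutes' := fun c => rfl }
  let E : IntermediateField F Ω := E₀.toSubfield.toIntermediateField fun c => c.2
  have hι : ∀ y, ψ (ι y) ∈ E₀ := fun y => by
    induction y using TensorProduct.induction_on with
    | zero => simp
    | tmul c r =>
      have e : ψ (ι (c ⊗ₜ r)) = j (c : L) * φ r := by
        simp only [ι, j, φ, Algebra.TensorProduct.map_tmul, AlgHom.comp_apply,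
          Algebra.TensorProduct.includeLeft_apply, Algebra.TensorProduct.includeRight_apply,
          ← map_mul, Algebra.TensorProduct.tmul_mul_tmul, mul_one, one_mul]
        rfl
      rw [e]
      exact mul_mem c.2 (IntermediateField.subset_adjoin K _ ⟨r, rfl⟩)
    | add a b ha hb => rw [map_add, map_add]; exact add_mem ha hb
  haveI : Algebra.IsSeparable F L := Algebra.isSeparable_tower_top_of_isSeparable K F L
  have hzero := coeff_eq_zero j' E (fun l hl => ⟨⟨l, hl⟩, rfl⟩) (fun i : t.support => bs i.1)
    (bs.linearIndependent.comp _ Subtype.val_injective) (fun i => ⟨ψ (ι (t i.1)), hι _⟩) (by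
      rw [Finset.sum_coe_sort t.support fun i => ψ (ι (t i)) * j' (bs i), ← hz', Finsupp.sum, map_sum]
      refine Finset.sum_congr rfl fun i _ => ?_
      rw [map_mul, mul_comm]
      rfl)
  refine Ideal.sum_mem _ fun i hi => Ideal.mul_mem_left _ _ (Ideal.mem_map_of_mem _ ?_)
  rw [Ideal.mem_comap]
  exact Ideal.algebraMap_residueField_eq_zero.1 (congrArg Subtype.val (hzero ⟨i, hi⟩))

end GrothLib.NoethTensor4
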