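import Groth.Agent.Lib.DVRDom.Exists
import Groth.Agent.Lib.Olivier.Main
import Mathlib

/-!
Bound on the degree of finite subextensions of the residue fields of a Noetherian local algebra over
a henselian discrete valuation ring with algebraically closed residue field.
-/

set_option autoImplicit false
set_option linter.style.haveILetI false
universe u

open IsLocalRing

namespace GrothLib.NoethTensor4

variable {V : Type u} [CommRing V] [IsDomain V] [IsDiscreteValuationRing V] [HenselianLocalRing V]
  [IsAlgClosed (ResidueField V)]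
  {K : Type u} [Field K] [CharZero K] [Algebra V K] [IsFractionRing V K]

theorem exists_finrank_le (B : Type u) [CommRing B] [IsNoetherianRing B] [IsLocalRing B] [Algebra V B]
    [IsLocalHom (algebraMap V B)] {Ω : Type u} [Field Ω] [Algebra K Ω] [Algebra V Ω]
    [IsScalarTower V K Ω] (g : B →ₐ[V] Ω) :
    ∃ N : ℕ, ∀ F : IntermediateField K Ω, (F : Set Ω) ⊆ Subfield.closure (Set.range g) →
      FiniteDimensional K F → Module.finrank K F ≤ N := by
  classical
  obtain ⟨ϖ, hϖ⟩ := IsDiscreteValuationRing.exists_irreducible V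
  let E := Subfield.closure (Set.range g)
  let gE : B →+* E := (g : B →+* Ω).codRestrict E fun b => Subfield.subset_closure ⟨b, rfl⟩
  let D := B ⧸ RingHom.ker gE
  haveI : (RingHom.ker gE).IsPrime := RingHom.ker_isPrime gE
  haveI : IsLocalRing D := IsLocalRing.of_surjective' _ Ideal.Quotient.mk_surjective
  letI : Algebra D E := (RingHom.kerLift gE).toAlgebra
  have hinj : Function.Injective (algebraMap D E) := RingHom.kerLift_injective gE
  have hVΩ : Function.Injective (algebraMap V Ω) := by
    rw [IsScalarTower.algebraMap_eq V K Ω]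
    exact (algebraMap K Ω).injective.comp (IsFractionRing.injective V K)
  have hϖB : algebraMap V B ϖ ∈ maximalIdeal B := fun h => hϖ.1 (IsUnit.of_map (algebraMap V B) ϖ h)
  let ϖD : D := Ideal.Quotient.mk _ (algebraMap V B ϖ)
  have hϖD : ϖD ∈ maximalIdeal D := by
    intro hu
    obtain ⟨c, hc⟩ := hu.exists_right_inv
    obtain ⟨b, rfl⟩ := Ideal.Quotient.mk_surjective c
    rw [← map_mul, ← map_one (Ideal.Quotient.mk (RingHom.ker gE)), Ideal.Quotient.eq] at hc
    have := (maximalIdeal B).sub_mem (Ideal.mul_mem_right b _ hϖB)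
      (le_maximalIdeal (RingHom.ker_ne_top gE) hc)
    rw [sub_sub_cancel] at this
    exact (maximalIdeal.isMaximal B).ne_top ((Ideal.eq_top_iff_one _).2 this)
  have hval : ((algebraMap D E ϖD : E) : Ω) = algebraMap V Ω ϖ := g.commutes ϖ
  have hne : algebraMap D E ϖD ≠ 0 := fun h => hϖ.ne_zero (hVΩ (by
    rw [← hval, h, map_zero]; rfl))
  have hD : ¬ IsField D := fun h => by
    letI := h.toField
    rw [IsLocalRing.maximalIdeal_eq_bot] at hϖD
    exact hne (by rw [show ϖD = 0 from hϖD, map_zero])
  have hgen : Subfield.closure (Set.range (algebraMap D E) ∪ (↑(∅ : Finset E) : Set E)) = ⊤ := by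
    rw [Finset.coe_empty, Set.union_empty, eq_top_iff]
    rintro ⟨x, hx⟩ -
    have h1 : Subfield.map E.subtype (Subfield.closure (Set.range (algebraMap D E))) = E := by
      rw [RingHom.map_field_closure]
      refine congrArg Subfield.closure (Set.ext fun y => ?_)
      constructor
      · rintro ⟨_, ⟨d, rfl⟩, rfl⟩
        obtain ⟨b, rfl⟩ := Ideal.Quotient.mk_surjective d
        exact ⟨b, rfl⟩
      · rintro ⟨b, rfl⟩
        exact ⟨gE b, ⟨Ideal.Quotient.mk _ b, rfl⟩, rfl⟩
    obtain ⟨y, hy, hyx⟩ := h1.ge hx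
    rwa [show (⟨x, hx⟩ : E) = y from Subtype.ext hyx.symm]
  obtain ⟨W, hW, hDW, hlt⟩ := GrothLib.DVRDom.exists_dvr_dominating hD hinj ∅ hgen
  haveI := hW
  let ϖW : W := ⟨algebraMap D E ϖD, hDW ϖD⟩
  have hϖW : ϖW ≠ 0 := fun h => hne (congrArg Subtype.val h)
  have hϖWu : ¬ IsUnit ϖW := fun h => by
    have := (W.valuation_lt_one_iff ϖW).2 (hlt ϖD hϖD)
    exact this h
  obtain ⟨N, hN⟩ : ∃ N : ℕ, IsDiscreteValuationRing.addVal W ϖW = N :=
    ⟨_, (ENat.coe_toNat (fun h => hϖW (IsDiscreteValuationRing.addVal_eq_top_iff.1 h))).symm⟩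
  refine ⟨N, fun F hF hfin => ?_⟩
  haveI := hfin
  letI : Algebra V F := ((algebraMap K F).comp (algebraMap V K)).toAlgebra
  haveI : IsScalarTower V K F := IsScalarTower.of_algebraMap_eq fun _ => rfl
  let O := integralClosure V F
  haveI : IsLocalRing O := GrothLib.Olivier.isLocalRing_integralClosure V
  haveI : Algebra.IsSeparable K F := Algebra.IsAlgebraic.isSeparable_of_perfectField
  haveI : Module.Finite V O := IsIntegralClosure.finite V K F O
  haveI : IsDedekindDomain O := IsIntegralClosure.isDedekindDomain V K F O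
  have hVF : Function.Injective (algebraMap V F) :=
    (algebraMap K F).injective.comp (IsFractionRing.injective V K)
  -- map to `W`
  let toE : F →+* E := (F.val : F →+* Ω).codRestrict E fun x => hF x.2
  have hVW : ∀ v : V, toE (algebraMap V F v) ∈ W := fun v => by
    have e : toE (algebraMap V F v) = algebraMap D E (Ideal.Quotient.mk _ (algebraMap V B v)) :=
      Subtype.ext ((IsScalarTower.algebraMap_apply V K Ω v).symm.trans (g.commutes v).symm)
    rw [e]
    exact hDW _
  have hOW : ∀ x : O, toE (x : F) ∈ W := fun x => by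
    obtain ⟨p, hp, hpx⟩ := x.2
    let φ : V →+* W := (toE.comp (algebraMap V F)).codRestrict W.toSubring hVW
    have : IsIntegral W (toE (x : F)) := ⟨p.map φ, hp.map φ, by
      rw [Polynomial.eval₂_map]
      have h2 := congrArg toE hpx
      rw [Polynomial.hom_eval₂, map_zero] at h2
      exact h2⟩
    obtain ⟨w, hw⟩ := IsIntegrallyClosed.isIntegral_iff.1 this
    exact hw ▸ w.2
  let ι : O →+* W := (toE.comp O.val.toRingHom).codRestrict W.toSubring hOW
  have hιϖ : ι (algebraMap V O ϖ) = ϖW :=
    Subtype.ext (Subtype.ext ((IsScalarTower.algebraMap_apply V K Ω ϖ).symm.trans (g.commutes ϖ).symm))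
  have hϖO : algebraMap V O ϖ ≠ 0 := fun h => hϖW (by rw [← hιϖ, h, map_zero])
  have hϖOu : ¬ IsUnit (algebraMap V O ϖ) := fun h => hϖWu (hιϖ ▸ h.map ι)
  have hOF : ¬ IsField O := fun h => by
    letI := h.toField
    exact hϖOu (isUnit_iff_ne_zero.2 hϖO)
  haveI : IsDiscreteValuationRing O :=
    ((IsDiscreteValuationRing.TFAE O hOF).out 0 2 :
      IsDiscreteValuationRing O ↔ IsDedekindDomain O).2 inferInstance
  obtain ⟨π, hπ⟩ := IsDiscreteValuationRing.exists_irreducible O
  obtain ⟨e, u, hu⟩ := IsDiscreteValuationRing.eq_unit_mul_pow_irreducible hϖO hπ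
  have he : e ≤ N := by
    have hv : IsDiscreteValuationRing.addVal W (ι (π ^ e)) = N := by
      rw [← hN, ← hιϖ, hu, map_mul, IsDiscreteValuationRing.addVal_mul,
        IsDiscreteValuationRing.addVal_eq_zero_iff.2 (u.isUnit.map ι), zero_add]
    rw [map_pow, IsDiscreteValuationRing.addVal_pow] at hv
    have hπu : IsDiscreteValuationRing.addVal W (ι π) ≠ 0 := fun h0 => by
      rw [h0, smul_zero, eq_comm] at hv
      have : IsDiscreteValuationRing.addVal W ϖW = 0 := hN.trans hv
      exact hϖWu (IsDiscreteValuationRing.addVal_eq_zero_iff.1 this)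
    have h1 : (e : ℕ∞) ≤ N := by
      rw [← hv, nsmul_eq_mul]
      exact le_mul_of_one_le_right' (ENat.one_le_iff_ne_zero.2 hπu)
    exact_mod_cast h1
  -- `O` is spanned by the first `e` powers of `π`
  haveI : IsLocalHom (algebraMap V O) := ⟨fun v hv => by
    by_contra hnu
    have : v ∈ maximalIdeal V := hnu
    rw [hϖ.maximalIdeal_eq, Ideal.mem_span_singleton] at this
    exact hϖOu (isUnit_of_dvd_unit (map_dvd _ this) hv)⟩
  have hres : ∀ y : O, ∃ c : V, y - algebraMap V O c ∈ maximalIdeal O := fun y => by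
    haveI : Algebra.IsIntegral (ResidueField V) (ResidueField O) := Algebra.IsIntegral.of_finite _ _
    obtain ⟨c, hc⟩ := (IsAlgClosed.algebraMap_bijective_of_isIntegral
      (k := ResidueField V) (K := ResidueField O)).2 (residue O y)
    obtain ⟨c, rfl⟩ := residue_surjective c
    exact ⟨c, (residue_eq_zero_iff _).1 (by rw [map_sub, sub_eq_zero, ← hc]; rfl)⟩
  let M : Submodule V O := Submodule.span V (Set.range fun i : Fin e => π ^ (i : ℕ))
  have hstep : ∀ k, k ≤ e → ∀ x : O, ∃ m ∈ M, ∃ y, x = m + π ^ k * y := by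
    intro k
    induction k with
    | zero => exact fun _ x => ⟨0, zero_mem _, x, by simp⟩
    | succ k ih =>
      intro hk x
      obtain ⟨m, hm, y, rfl⟩ := ih (by omega) x
      obtain ⟨c, hc⟩ := hres y
      rw [hπ.maximalIdeal_eq, Ideal.mem_span_singleton'] at hc
      obtain ⟨z, hz⟩ := hc
      refine ⟨m + c • π ^ k, add_mem hm (Submodule.smul_mem _ _ (Submodule.subset_span ⟨⟨k, hk⟩, rfl⟩)),
        z, ?_⟩
      rw [Algebra.smul_def]
      linear_combination (-(π ^ k)) * hz
  have htop : ⊤ ≤ M := by
    refine Submodule.le_of_le_smul_of_le_jacobson_bot (I := maximalIdeal V) Module.Finite.fg_top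
      (maximalIdeal_le_jacobson _) fun x _ => ?_
    obtain ⟨m, hm, y, rfl⟩ := hstep e le_rfl x
    refine Submodule.add_mem_sup hm ?_
    have : π ^ e * y = ϖ • ((↑u⁻¹ : O) * y) := by
      rw [Algebra.smul_def, hu, mul_comm (↑u : O), mul_assoc, ← mul_assoc (↑u : O), Units.mul_inv,
        one_mul]
    rw [this]
    exact Submodule.smul_mem_smul (hϖ.maximalIdeal_eq ▸ Ideal.mem_span_singleton_self ϖ)
      Submodule.mem_top
  let π' : Fin e → F := fun i => ((π ^ (i : ℕ) : O) : F)
  have hspan : (⊤ : Submodule K F) ≤ Submodule.span K (Set.range π') := by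
    rintro x -
    haveI : IsLocalization (Algebra.algebraMapSubmonoid O (nonZeroDivisors V)) F :=
      IsIntegralClosure.isLocalization V K F O
    obtain ⟨a, ⟨_, v, hv, rfl⟩, hx⟩ := IsLocalization.exists_mk'_eq
      (Algebra.algebraMapSubmonoid O (nonZeroDivisors V)) x
    have ha : ∀ a : O, (a : F) ∈ Submodule.span K (Set.range π') := fun a => by
      have := htop (Submodule.mem_top : a ∈ ⊤)
      induction this using Submodule.span_induction with
      | mem y hy => obtain ⟨i, rfl⟩ := hy; exact Submodule.subset_span ⟨i, rfl⟩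
      | zero => exact zero_mem _
      | add y z _ _ hy hz => exact add_mem hy hz
      | smul c y _ hy =>
        rw [Subalgebra.coe_smul, Algebra.smul_def, IsScalarTower.algebraMap_apply V K F,
          ← Algebra.smul_def]
        exact Submodule.smul_mem _ _ hy
    have hv0 : algebraMap V K v ≠ 0 := fun h =>
      nonZeroDivisors.ne_zero hv (IsFractionRing.injective V K (h.trans (map_zero _).symm))
    have hxe : x = (algebraMap V K v)⁻¹ • (a : F) := by
      rw [eq_inv_smul_iff₀ hv0, Algebra.smul_def, ← hx, ← IsScalarTower.algebraMap_apply]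
      rw [IsScalarTower.algebraMap_apply V O F]
      exact IsLocalization.mk'_spec' (M := Algebra.algebraMapSubmonoid O (nonZeroDivisors V)) F a ⟨algebraMap V O v, ⟨v, hv, rfl⟩⟩
    rw [hxe]
    exact Submodule.smul_mem _ _ (ha a)
  calc Module.finrank K F = Module.finrank K (⊤ : Submodule K F) := (finrank_top K F).symm
    _ ≤ Module.finrank K (Submodule.span K (Set.range π')) := Submodule.finrank_mono hspan
    _ ≤ e := (finrank_range_le_card π').trans_eq (Fintype.card_fin e)
    _ ≤ N := he

end GrothLib.NoethTensor4
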